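import Groth.Agent.Lib.CohClass25.Obj
import Groth.Agent.Lib.ModSupp25.QuotUnit

/-!
# Ext groups out of sheaves resolved by a class of quasi-compact sheaves commute with filtered colimits
-/

set_option autoImplicit false
set_option linter.style.haveILetI false

universe u

open CategoryTheory CategoryTheory.Limits Opposite ToposFin Abelian
open GrothLib.CohTopos20 (zf und zfAdj Tup tupPre tupAb dPre aug headMap imgMap consMap exact_aug exact_dPre
  exists_present isPullback_tup isIso_headMap kerA kerD eq_zero_of_comp_eq_zero)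

namespace GrothLib.CohClass25

variable {C : Type u} [SmallCategory C] {J : GrothendieckTopology C} (S : Set (Sh J))

theorem exists_good {X L : Sh J} (f : L ⟶ X) {S : Set (Sh J)} (hS : IsQCClass S) (hX : Good S X)
    (hL : Good S L) : ∀ n : ℕ, ∃ Q : Sh J, Good S Q ∧ Nonempty (Q.obj ≅ tupPre f n)
  | 0 => ⟨L, hL, ⟨(@asIso _ _ _ _ (headMap f 0) (isIso_headMap f)).symm⟩⟩
  | n + 1 => by
    obtain ⟨Q, hQ, ⟨e⟩⟩ := exists_good f hS hX hL n
    let g : Q ⟶ X := ⟨e.hom ≫ imgMap f n⟩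
    have sq : IsPullback (consMap f n ≫ e.inv) (headMap f (n + 1)) g.hom f.hom :=
      (isPullback_tup f n).of_iso (Iso.refl _) e.symm (Iso.refl _) (Iso.refl _)
        (Category.id_comp _).symm (by simp) (by simp [g]) (by simp)
    exact ⟨pullback g f, good_pullback hS hQ hL hX g f, ⟨IsPullback.isoIsPullback _ _
      ((IsPullback.of_hasPullback g f).map (sheafToPresheaf J (Type u))) sq⟩⟩

/-- A class closed under taking the kernel of a presentation by a base object. -/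
def Closed (P : Sheaf J AddCommGrpCat.{u} → Prop) : Prop :=
  ∀ M, P M → IsZero M ∨ ∃ (K : Sh J) (p : (zf J).obj K ⟶ M), Good S K ∧ Epi p ∧ P (kernel p)

/-- Having a left resolution by free sheaves on base objects. -/
def Nice (N : Sheaf J AddCommGrpCat.{u}) : Prop := ∃ P, Closed S P ∧ P N

variable {S}

theorem Nice.exists {N : Sheaf J AddCommGrpCat.{u}} (h : Nice S N) :
    IsZero N ∨ ∃ (K : Sh J) (p : (zf J).obj K ⟶ N), Good S K ∧ Epi p ∧ Nice S (kernel p) := by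
  obtain ⟨P, hP, hN⟩ := h
  rcases hP N hN with h0 | ⟨K, p, hK, hp, hk⟩
  · exact Or.inl h0
  · exact Or.inr ⟨K, p, hK, hp, P, hP, hk⟩

theorem Nice.of_iso {N N' : Sheaf J AddCommGrpCat.{u}} (h : Nice S N) (e : N ≅ N') : Nice S N' := by
  obtain ⟨P, hP, hN⟩ := h
  refine ⟨fun M => ∃ M₀, P M₀ ∧ Nonempty (M₀ ≅ M), fun M ⟨M₀, h₀, ⟨e₀⟩⟩ => ?_, N, hN, ⟨e⟩⟩
  rcases hP M₀ h₀ with h0 | ⟨K, p, hK, hp, hk⟩
  · exact Or.inl (h0.of_iso e₀.symm)
  · exact Or.inr ⟨K, p ≫ e₀.hom, hK, epi_comp _ _, _, hk, ⟨(kernelCompMono p e₀.hom).symm⟩⟩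

theorem Nice.mk {N : Sheaf J AddCommGrpCat.{u}} {K : Sh J} (p : (zf J).obj K ⟶ N) (hK : Good S K)
    [Epi p] (h : Nice S (kernel p)) : Nice S N := by
  obtain ⟨P, hP, hk⟩ := h
  refine ⟨fun M => P M ∨ M = N, fun M hM => ?_, Or.inr rfl⟩
  rcases hM with hM | rfl
  · rcases hP M hM with h0 | ⟨L, q, hL, hq, hkq⟩
    · exact Or.inl h0
    · exact Or.inr ⟨L, q, hL, hq, Or.inl hkq⟩
  · exact Or.inr ⟨K, p, hK, inferInstance, Or.inl hk⟩

theorem Nice.of_isZero {N : Sheaf J AddCommGrpCat.{u}} (h : IsZero N) : Nice S N :=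
  ⟨fun M => IsZero M, fun _ hM => Or.inl hM, h⟩

theorem nice_free {K : Sh J} (hK : Good S K) : Nice S ((zf J).obj K) :=
  Nice.mk (𝟙 _) hK (Nice.of_isZero (isZero_kernel_of_mono _))

section Cech

variable {X L : Sh J} (f : L ⟶ X)

theorem nice_kerA (hS : IsQCClass S) (hX : Good S X) (hL : Good S L) : Nice S (kerA f) := by
  refine ⟨fun M => Nonempty (kerA f ≅ M) ∨ ∃ n, Nonempty (kerD f n ≅ M), fun M hM => Or.inr ?_,
    Or.inl ⟨Iso.refl _⟩⟩
  have hbase : ∀ n, ∃ Q : Sh J, Good S Q ∧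
      Nonempty ((zf J).obj Q ≅ (presheafToSheaf J AddCommGrpCat.{u}).obj (tupAb f n)) := fun n => by
    obtain ⟨Q, hQ, ⟨e⟩⟩ := exists_good f hS hX hL n
    exact ⟨Q, hQ, ⟨(presheafToSheaf J AddCommGrpCat.{u}).mapIso
      (((Functor.whiskeringRight _ _ _).obj AddCommGrpCat.free.{u}).mapIso e)⟩⟩
  rcases hM with ⟨⟨e₀⟩⟩ | ⟨n, ⟨e₀⟩⟩
  · obtain ⟨Q, hQ, ⟨eQ⟩⟩ := hbase 1
    obtain ⟨p, hp, ⟨k⟩⟩ := exists_present _ (exact_aug f) eQ
    exact ⟨Q, p ≫ e₀.hom, hQ, epi_comp _ _, Or.inr ⟨0, ⟨(kernelCompMono p e₀.hom ≪≫ k).symm⟩⟩⟩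
  · obtain ⟨Q, hQ, ⟨eQ⟩⟩ := hbase (n + 2)
    obtain ⟨p, hp, ⟨k⟩⟩ := exists_present _ (exact_dPre f n) eQ
    exact ⟨Q, p ≫ e₀.hom, hQ, epi_comp _ _, Or.inr ⟨n + 1, ⟨(kernelCompMono p e₀.hom ≪≫ k).symm⟩⟩⟩

theorem nice_kernel (hS : IsQCClass S) (hX : Good S X) (hL : Good S L) :
    Nice S (kernel ((zf J).map f)) := by
  haveI := isIso_headMap f
  let e : (presheafToSheaf J AddCommGrpCat.{u}).obj (tupAb f 0) ≅ (zf J).obj L :=
    (presheafToSheaf J AddCommGrpCat.{u}).mapIso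
      (((Functor.whiskeringRight _ _ _).obj AddCommGrpCat.free.{u}).mapIso (asIso (headMap f 0)))
  have he : (presheafToSheaf J AddCommGrpCat.{u}).map (aug f) = e.hom ≫ (zf J).map f := by
    change (presheafToSheaf J AddCommGrpCat.{u}).map _ =
      (presheafToSheaf J AddCommGrpCat.{u}).map _ ≫ (presheafToSheaf J AddCommGrpCat.{u}).map _
    rw [← Functor.map_comp]
    congr 1
    exact Functor.whiskerRight_comp (headMap f 0) f.hom AddCommGrpCat.free.{u}
  exact (nice_kerA f hS hX hL).of_iso (kernelIsoOfEq he ≪≫ kernelIsIsoComp _ _)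

theorem nice_cokernel (hS : IsQCClass S) (hX : Good S X) (hL : Good S L) :
    Nice S (cokernel ((zf J).map f)) := by
  refine Nice.mk (cokernel.π ((zf J).map f)) hX ?_
  let T := ShortComplex.mk _ _ (cokernel.condition ((zf J).map f))
  haveI : Epi (kernel.lift T.g T.f T.zero) :=
    T.exact_iff_epi_kernel_lift.1 (ShortComplex.exact_of_g_is_cokernel T (cokernelIsCokernel _))
  refine Nice.mk (kernel.lift T.g T.f T.zero) hL ?_
  exact (nice_kernel f hS hX hL).of_iso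
    (kernelIsoOfEq (kernel.lift_ι T.g T.f T.zero).symm ≪≫ kernelCompMono _ _)

end Cech

/-! ### Killing classes -/

variable (hS : IsQCClass S)

include hS in
theorem exists_cover {X W : Sh J} (hX : Good S X) (a : W ⟶ X) [Epi a] :
    ∃ (L : Sh J) (l : L ⟶ W), Good S L ∧ Epi (l ≫ a) := by
  obtain ⟨L, l, hL, hep⟩ := hX.1.exists_refine hS a
  exact ⟨L, l, good_of_mem hS hL, hep⟩

include hS in
theorem exists_kill : ∀ (q : ℕ) {X : Sh J} (_ : Good S X) (F : Sheaf J AddCommGrpCat.{u})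
    (c : Ext ((zf J).obj X) F (q + 1)),
    ∃ (L : Sh J) (g : L ⟶ X), Good S L ∧ Epi g ∧
      (Ext.mk₀ ((zf J).map g)).comp c (zero_add _) = 0 := by
  intro q
  induction q with
  | zero =>
    intro X hX F c
    let T := ShortComplex.mk (Injective.ι F) (cokernel.π (Injective.ι F)) (cokernel.condition _)
    have hT : T.ShortExact := { exact := ShortComplex.exact_of_g_is_cokernel _ (cokernelIsCokernel _) }
    obtain ⟨x, hx⟩ := Ext.covariant_sequence_exact₁ _ hT c (Ext.eq_zero_of_injective _) rfl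
    obtain ⟨φ, rfl⟩ := (Ext.mk₀_bijective _ _).2 x
    let φ' := (zfAdj J).homEquiv X _ φ
    haveI : Epi (pullback.fst φ' ((und J).map T.g)) := by
      haveI : Epi T.g := hT.epi_g
      haveI : Epi ((und J).map T.g) := inferInstance
      exact ⟨fun x y hxy => Topos.QC.fam_pullback'
        (Topos.QC.fam_single.{u} ((und J).map T.g)) φ' _ x y fun _ => hxy⟩
    obtain ⟨L, l, hL, hep⟩ := exists_cover hS hX (pullback.fst φ' ((und J).map T.g))
    refine ⟨L, _, hL, hep, ?_⟩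
    let ψ := ((zfAdj J).homEquiv L _).symm (l ≫ pullback.snd φ' ((und J).map T.g))
    have hψ : (zf J).map (l ≫ pullback.fst φ' ((und J).map T.g)) ≫ φ = ψ ≫ T.g := by
      apply ((zfAdj J).homEquiv L _).injective
      rw [Adjunction.homEquiv_naturality_left, Adjunction.homEquiv_naturality_right,
        Equiv.apply_symm_apply, Category.assoc, Category.assoc, pullback.condition]
    rw [← hx, Ext.mk₀_comp_mk₀_assoc, hψ, ← Ext.mk₀_comp_mk₀_assoc, hT.comp_extClass, Ext.comp_zero]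
  | succ q ih =>
    intro X hX F c
    let T := ShortComplex.mk (Injective.ι F) (cokernel.π (Injective.ι F)) (cokernel.condition _)
    have hT : T.ShortExact := { exact := ShortComplex.exact_of_g_is_cokernel _ (cokernelIsCokernel _) }
    obtain ⟨x, hx⟩ := Ext.covariant_sequence_exact₁ _ hT c (Ext.eq_zero_of_injective _) rfl
    obtain ⟨L, g, hL, hep, hk⟩ := ih hX _ x
    refine ⟨L, g, hL, hep, ?_⟩
    rw [← hx, ← Ext.comp_assoc _ _ _ (zero_add (q + 1)) rfl (by omega), hk, Ext.zero_comp]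

/-! ### Colimits -/

variable {Λ : Type u} [SmallCategory Λ] [IsFiltered Λ]

include hS in
theorem hom_free {K : Sh J} (hK : Good S K) (D : Λ ⥤ Sheaf J AddCommGrpCat.{u}) :
    (∀ φ : (zf J).obj K ⟶ colimit D, ∃ (i : Λ) (ψ : (zf J).obj K ⟶ D.obj i), ψ ≫ colimit.ι D i = φ) ∧
    ∀ (i : Λ) (ψ : (zf J).obj K ⟶ D.obj i), ψ ≫ colimit.ι D i = 0 →
      ∃ (j : Λ) (a : i ⟶ j), ψ ≫ D.map a = 0 := by
  obtain ⟨hgen, hkill⟩ := hom_filtered hS (D ⋙ und J) hK (isColimitOfPreserves (und J) (colimit.isColimit D))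
  let e := fun Y => (zfAdj J).homEquiv K Y
  constructor
  · intro φ
    obtain ⟨i, x, hx⟩ := hgen (e _ φ)
    refine ⟨i, (e _).symm x, (e _).injective ?_⟩
    rw [Adjunction.homEquiv_naturality_right, Equiv.apply_symm_apply]
    exact hx
  · intro i ψ hψ
    have h2 : e _ ψ ≫ (und J).map (colimit.ι D i) = e _ 0 ≫ (und J).map (colimit.ι D i) := by
      rw [← Adjunction.homEquiv_naturality_right, ← Adjunction.homEquiv_naturality_right, hψ, zero_comp]
    obtain ⟨j, a, hab⟩ := hkill _ _ _ h2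
    refine ⟨j, a, ?_⟩
    rw [← zero_comp (f := D.map a)]
    exact (e _).injective (by
      rw [Adjunction.homEquiv_naturality_right, Adjunction.homEquiv_naturality_right]; exact hab)

include hS in
theorem hom_kill {N : Sheaf J AddCommGrpCat.{u}} (hN : Nice S N) (D : Λ ⥤ Sheaf J AddCommGrpCat.{u})
    (i : Λ) (ψ : N ⟶ D.obj i) (h : ψ ≫ colimit.ι D i = 0) : ∃ (j : Λ) (a : i ⟶ j), ψ ≫ D.map a = 0 := by
  rcases hN.exists with h0 | ⟨K, p, hK, hp, -⟩
  · exact ⟨i, 𝟙 i, h0.eq_of_src _ _⟩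
  · obtain ⟨j, a, ha⟩ := (hom_free hS hK D).2 i (p ≫ ψ) (by rw [Category.assoc, h, comp_zero])
    exact ⟨j, a, (cancel_epi p).1 (by rw [← Category.assoc, ha, comp_zero])⟩

include hS in
theorem hom_gen {N : Sheaf J AddCommGrpCat.{u}} (hN : Nice S N) (D : Λ ⥤ Sheaf J AddCommGrpCat.{u})
    (φ : N ⟶ colimit D) : ∃ (i : Λ) (ψ : N ⟶ D.obj i), ψ ≫ colimit.ι D i = φ := by
  rcases hN.exists with h0 | ⟨K, p, hK, hp, hk⟩
  · exact ⟨IsFiltered.nonempty.some, 0, h0.eq_of_src _ _⟩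
  · obtain ⟨i, ψ, hψ⟩ := (hom_free hS hK D).1 (p ≫ φ)
    obtain ⟨j, a, ha⟩ := hom_kill hS hk D i (kernel.ι p ≫ ψ) (by
      rw [Category.assoc, hψ, ← Category.assoc, kernel.condition, zero_comp])
    let T := ShortComplex.mk _ _ (kernel.condition p)
    have hT : T.ShortExact := { exact := ShortComplex.exact_of_f_is_kernel _ (kernelIsKernel _) }
    refine ⟨j, hT.exact.desc (ψ ≫ D.map a) (by rw [← Category.assoc]; exact ha), (cancel_epi p).1 ?_⟩
    rw [← Category.assoc]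
    refine (congrArg (· ≫ colimit.ι D j) (hT.exact.g_desc _ _)).trans ?_
    rw [Category.assoc, colimit.w, hψ]

include hS in
theorem gen_zero {N : Sheaf J AddCommGrpCat.{u}} (hN : Nice S N) (D : Λ ⥤ Sheaf J AddCommGrpCat.{u}) :
    ColimCoh.Gen N 0 D ∧ ColimCoh.Kill N 0 D := by
  refine ⟨fun x => ?_, fun i y hy => ?_⟩
  · obtain ⟨φ, rfl⟩ := (Ext.mk₀_bijective _ _).2 x
    obtain ⟨i, ψ, hψ⟩ := hom_gen hS hN D φ
    exact ⟨i, Ext.mk₀ ψ, by rw [Ext.mk₀_comp_mk₀, hψ]⟩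
  · obtain ⟨ψ, rfl⟩ := (Ext.mk₀_bijective _ _).2 y
    rw [Ext.mk₀_comp_mk₀, Ext.mk₀_eq_zero_iff] at hy
    obtain ⟨j, a, ha⟩ := hom_kill hS hN D i ψ hy
    exact ⟨j, a, by rw [Ext.mk₀_comp_mk₀, ha, Ext.mk₀_zero]⟩

include hS in
theorem vanish : ∀ (q : ℕ) {N : Sheaf J AddCommGrpCat.{u}} (_ : Nice S N)
    (D : Λ ⥤ Sheaf J AddCommGrpCat.{u}) (_ : ∀ i, Injective (D.obj i)),
    Subsingleton (Ext N (colimit D) (q + 1)) := by
  intro q
  induction q with
  | zero =>
    intro N hN D hD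
    exact subsingleton_of_forall_eq 0 (step 0 (fun M hM => (gen_zero hS hM D).1) D hD hN)
  | succ q ih =>
    intro N hN D hD
    exact subsingleton_of_forall_eq 0 (step (q + 1)
      (fun M hM x => ⟨IsFiltered.nonempty.some, 0, @Subsingleton.elim _ (ih hM D hD) _ _⟩) D hD hN)
where
  step (q : ℕ) {D : Λ ⥤ Sheaf J AddCommGrpCat.{u}}
      (hq : ∀ M, Nice S M → ColimCoh.Gen M q D) (D' := D) (hD : ∀ i, Injective (D.obj i))
      {N : Sheaf J AddCommGrpCat.{u}} (hN : Nice S N) (c : Ext N (colimit D) (q + 1)) : c = 0 := by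
    have hfree : ∀ {K : Sh J} (_ : Good S K) (b : Ext ((zf J).obj K) (colimit D) (q + 1)), b = 0 := by
      intro K hK b
      obtain ⟨L, g, hL, hep, hk⟩ := exists_kill hS q hK _ b
      exact eq_zero_of_comp_eq_zero ((zf J).map g) q D hD (hq _ (nice_kernel g hS hK hL)) b hk
    rcases hN.exists with h0 | ⟨K, p, hK, hp, hk⟩
    · rw [← Ext.mk₀_id_comp c, h0.eq_of_src (𝟙 N) 0, Ext.mk₀_zero, Ext.zero_comp]
    · exact eq_zero_of_comp_eq_zero p q D hD (hq _ hk) c (hfree hK _)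

include hS in
theorem gen_and_kill {N : Sheaf J AddCommGrpCat.{u}} (hN : Nice S N) (q : ℕ)
    (D : Λ ⥤ Sheaf J AddCommGrpCat.{u}) : ColimCoh.Gen N q D ∧ ColimCoh.Kill N q D :=
  ColimCoh.gen_and_kill N (fun F => gen_zero hS hN F)
    (fun F hF p => vanish hS p hN F hF) q D

include hS in
theorem preservesColimitsOfShape_ext {N : Sheaf J AddCommGrpCat.{u}} (hN : Nice S N) (q : ℕ) :
    PreservesColimitsOfShape Λ ((extFunctor.{u} q).obj (op N)) := by
  constructor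
  intro D
  obtain ⟨hg, hk⟩ := gen_and_kill hS hN q D
  let Φ := (extFunctor.{u} q).obj (op N)
  refine preservesColimit_of_preserves_colimit_cocone (colimit.isColimit D) ?_
  haveI : ReflectsColimit (D ⋙ Φ) (forget AddCommGrpCat.{u}) := reflectsColimit_of_reflectsIsomorphisms _ _
  apply isColimitOfReflects (forget AddCommGrpCat.{u})
  refine Types.FilteredColimit.isColimitOf _ _ (fun x => ?_) (fun i j xi xj h => ?_)
  · obtain ⟨i, y, hy⟩ := hg x
    exact ⟨i, y, hy.symm⟩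
  · change Ext N (D.obj i) q at xi
    change Ext N (D.obj j) q at xj
    let k := IsFiltered.max i j
    let a : i ⟶ k := IsFiltered.leftToMax i j
    let b : j ⟶ k := IsFiltered.rightToMax i j
    let d := xi.comp (Ext.mk₀ (D.map a)) (add_zero q) - xj.comp (Ext.mk₀ (D.map b)) (add_zero q)
    obtain ⟨l, c, hl⟩ := hk k d (by
      simp only [d, sub_eq_add_neg, Ext.add_comp, Ext.neg_comp, ColimCoh.comp_mk₀_comp, colimit.w]
      rw [← sub_eq_add_neg, sub_eq_zero]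
      exact h)
    refine ⟨l, a ≫ c, b ≫ c, ?_⟩
    simp only [d, sub_eq_add_neg, Ext.add_comp, Ext.neg_comp, ColimCoh.comp_mk₀_comp, ← D.map_comp] at hl
    rw [← sub_eq_add_neg, sub_eq_zero] at hl
    exact hl

include hS in
theorem preservesColimitsOfShape_functorH (h1 : ∃ K ∈ S, Epi (terminal.from K)) (q : ℕ) :
    PreservesColimitsOfShape Λ (Sheaf.functorH J q : Sheaf J AddCommGrpCat.{u} ⥤ AddCommGrpCat.{u}) := by
  haveI := preservesColimitsOfShape_ext (Λ := Λ) hS (nice_free (good_terminal hS h1)) q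
  let e : (zf J).obj (⊤_ Sh J) ≅
      (constantSheaf J AddCommGrpCat.{u}).obj (AddCommGrpCat.of (ULift.{u} ℤ)) := ModSupp25.topIso
  exact preservesColimitsOfShape_of_natIso
    ((extFunctor.{u} q).mapIso e.symm.op ≪≫ NatIso.ofComponents (fun _ => Iso.refl _) fun _ => rfl)

end GrothLib.CohClass25
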