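import Groth.Agent.Lib.CohTopos20.Ext
import Groth.Prelude.Def_CohCx

/-!
# Objects built from a class of quasi-compact sheaves

For a class `S` of sheaves of sets whose products and equalizers are covered by members, the objects
covered by a member and whose fibre products of members are covered by members are stable under
fibre products, and maps out of them commute with filtered colimits.
-/

set_option autoImplicit false
set_option linter.style.haveILetI false
set_option linter.unusedSectionVars false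

universe u

open CategoryTheory CategoryTheory.Limits Opposite ToposFin

namespace GrothLib.CohClass25

variable {C : Type u} [SmallCategory C] {J : GrothendieckTopology C}

/-- A class of quasi-compact sheaves, closed up to covers under refinements, products, equalizers. -/
structure IsQCClass (S : Set (Sh J)) : Prop where
  refine' : ∀ (F K : Sh J) (g : F ⟶ K), K ∈ S → Epi g → ∃ (K' : Sh J) (k : K' ⟶ F), K' ∈ S ∧ Epi (k ≫ g)
  prod : ∀ K ∈ S, ∀ K' ∈ S, ∃ (K'' : Sh J) (g : K'' ⟶ K ⨯ K'), K'' ∈ S ∧ Epi g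
  eq : ∀ K ∈ S, ∀ K' ∈ S, ∀ (a b : K ⟶ K'), ∃ (K'' : Sh J) (g : K'' ⟶ equalizer a b), K'' ∈ S ∧ Epi g
  qc : ∀ K ∈ S, IsQC K

/-- Quasi-compact objects in the sense of jointly surjective families are quasi-compact. -/
theorem isQC_of_isQcObject {K : Sh J} (h : CohCx.IsQcObject K) : IsQC K := by
  rw [Topos.QC.isQC_iff]
  intro ι F π hπ
  rw [Topos.QC.Fam, Topos.isEpiFamily_iff_liftSieve_mem] at hπ
  obtain ⟨t, ht⟩ := h ι F π fun U s => ⟨_, hπ U s, fun V f hf => hf⟩
  refine ⟨t, ?_⟩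
  rw [Topos.QC.Fam, Topos.isEpiFamily_iff_liftSieve_mem]
  intro U s
  obtain ⟨T, hT, hT'⟩ := ht U s
  exact J.superset_covering (fun V f hf => hT' V f hf) hT

variable (S : Set (Sh J))

/-- Covered by a member of `S`. -/
def Cov (X : Sh J) : Prop := ∃ (A : Sh J) (p : A ⟶ X), A ∈ S ∧ Epi p

/-- Covered by a member, with fibre products of members over it covered by members. -/
def Good (X : Sh J) : Prop :=
  Cov S X ∧ ∀ ⦃A B : Sh J⦄ (a : A ⟶ X) (b : B ⟶ X), A ∈ S → B ∈ S → Cov S (pullback a b)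

variable {S}

theorem Cov.of_epi {X Y : Sh J} (h : Cov S X) (f : X ⟶ Y) [Epi f] : Cov S Y := by
  obtain ⟨A, p, hA, hp⟩ := h
  exact ⟨A, p ≫ f, hA, epi_comp _ _⟩

theorem cov_of_mem {X : Sh J} (h : X ∈ S) : Cov S X := ⟨X, 𝟙 X, h, inferInstance⟩

theorem epi_fst {X Y Z : Sh J} (f : X ⟶ Z) (g : Y ⟶ Z) [Epi g] : Epi (pullback.fst f g) :=
  ⟨fun x y hxy => Topos.QC.fam_pullback' (Topos.QC.fam_single.{u} g) f _ x y fun _ => hxy⟩

theorem epi_of_isPullback {P X Y Z : Sh J} {p : P ⟶ X} {q : P ⟶ Y} {f : X ⟶ Z} {g : Y ⟶ Z}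
    (sq : IsPullback p q f g) [Epi g] : Epi p := by
  haveI := epi_fst f g
  exact sq.isoPullback_hom_fst ▸ epi_comp _ _

/-- Equalizers pulled back along an epimorphism. -/
theorem cov_equalizer_of_comp {V W X : Sh J} (k : V ⟶ W) [Epi k] (a b : W ⟶ X)
    (h : Cov S (equalizer (k ≫ a) (k ≫ b))) : Cov S (equalizer a b) := by
  haveI := epi_of_isPullback (Topos.QC.isPullback_equalizer_comp k a b)
  exact h.of_epi (equalizer.lift (equalizer.ι (k ≫ a) (k ≫ b) ≫ k)
    _)

/-- An object with a map having a section. -/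
theorem Cov.of_section {X Y : Sh J} (h : Cov S X) (f : X ⟶ Y) (g : Y ⟶ X) (hgf : g ≫ f = 𝟙 Y) :
    Cov S Y := by
  haveI : IsSplitEpi f := IsSplitEpi.mk' ⟨g, hgf⟩
  exact h.of_epi f

theorem cov_pullback_left {A X Y Z : Sh J} (e : A ⟶ X) [Epi e] (f : X ⟶ Z) (g : Y ⟶ Z)
    (h : Cov S (pullback (e ≫ f) g)) : Cov S (pullback f g) := by
  let l : pullback (e ≫ f) g ⟶ pullback f g := pullback.lift (pullback.fst _ _ ≫ e) (pullback.snd _ _)
    (by rw [Category.assoc, pullback.condition])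
  have sq : IsPullback l (pullback.fst (e ≫ f) g) (pullback.fst f g) e := by
    refine IsPullback.of_right ?_ (pullback.lift_fst _ _ _) (IsPullback.of_hasPullback f g).flip
    simp only [l, pullback.lift_snd]
    exact (IsPullback.of_hasPullback (e ≫ f) g).flip
  haveI := epi_of_isPullback sq
  exact h.of_epi l

theorem cov_pullback_symm {X Y Z : Sh J} (f : X ⟶ Z) (g : Y ⟶ Z) (h : Cov S (pullback g f)) :
    Cov S (pullback f g) :=
  h.of_epi (pullbackSymmetry g f).hom

variable (hS : IsQCClass S)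
include hS

theorem Cov.isQC {X : Sh J} (h : Cov S X) : IsQC X := by
  obtain ⟨A, p, hA, hp⟩ := h
  exact Topos.QC.isQC_of_epi p (hS.qc A hA)

theorem Cov.exists_refine {X : Sh J} (h : Cov S X) {W : Sh J} (a : W ⟶ X) [Epi a] :
    ∃ (L : Sh J) (l : L ⟶ W), L ∈ S ∧ Epi (l ≫ a) := by
  obtain ⟨A, p, hA, hp⟩ := h
  haveI := epi_fst p a
  obtain ⟨L, k, hL, hk⟩ := hS.refine' _ A (pullback.fst p a) hA inferInstance
  refine ⟨L, k ≫ pullback.snd p a, hL, ?_⟩
  rw [Category.assoc, ← pullback.condition, ← Category.assoc]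
  exact epi_comp _ _

theorem good_of_mem {X : Sh J} (hX : X ∈ S) : Good S X := by
  refine ⟨cov_of_mem hX, fun A B a b hA hB => ?_⟩
  obtain ⟨M, m, hM, hm⟩ := hS.prod A hA B hB
  obtain ⟨E, e, hE, he⟩ := hS.eq M hM X hX (m ≫ prod.fst ≫ a) (m ≫ prod.snd ≫ b)
  refine (cov_equalizer_of_comp m (prod.fst ≫ a) (prod.snd ≫ b) ⟨E, e, hE, he⟩).of_section
    (pullback.lift (equalizer.ι _ _ ≫ prod.fst) (equalizer.ι _ _ ≫ prod.snd)
      (by simpa using equalizer.condition (prod.fst ≫ a) (prod.snd ≫ b)))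
    (equalizer.lift (prod.lift (pullback.fst a b) (pullback.snd a b))
      (by rw [prod.lift_fst_assoc, prod.lift_snd_assoc, pullback.condition]))
    (pullback.hom_ext
      (by rw [Category.assoc, pullback.lift_fst, equalizer.lift_ι_assoc, prod.lift_fst, Category.id_comp])
      (by rw [Category.assoc, pullback.lift_snd, equalizer.lift_ι_assoc, prod.lift_snd, Category.id_comp]))

theorem good_terminal (h1 : ∃ K ∈ S, Epi (terminal.from K)) : Good S (⊤_ (Sh J)) := by
  obtain ⟨K, hK, hK'⟩ := h1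
  refine ⟨⟨K, _, hK, hK'⟩, fun A B a b hA hB => ?_⟩
  obtain ⟨M, m, hM, hm⟩ := hS.prod A hA B hB
  refine Cov.of_section (S := S) (X := A ⨯ B) ⟨M, m, hM, hm⟩
    (pullback.lift prod.fst prod.snd (Subsingleton.elim _ _))
    (prod.lift (pullback.fst a b) (pullback.snd a b))
    (pullback.hom_ext
      (by rw [Category.assoc, pullback.lift_fst, prod.lift_fst, Category.id_comp])
      (by rw [Category.assoc, pullback.lift_snd, prod.lift_snd, Category.id_comp]))

theorem cov_equalizer {M Y : Sh J} (hM : M ∈ S) (hY : Good S Y) (u v : M ⟶ Y) :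
    Cov S (equalizer u v) := by
  obtain ⟨N, n, hN, hn⟩ := hY.2 u v hM hM
  obtain ⟨E, e, hE, he⟩ := hS.eq N hN M hM (n ≫ pullback.fst u v) (n ≫ pullback.snd u v)
  refine (cov_equalizer_of_comp n (pullback.fst u v) (pullback.snd u v) ⟨E, e, hE, he⟩).of_section
    (equalizer.lift (equalizer.ι _ _ ≫ pullback.fst u v) ?_)
    (equalizer.lift (pullback.lift (equalizer.ι u v) (equalizer.ι u v) (equalizer.condition u v))
      (by rw [pullback.lift_fst, pullback.lift_snd])) (equalizer.hom_ext ?_)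
  rotate_left
  · rw [Category.assoc]
    exact ((congrArg (_ ≫ ·) (equalizer.lift_ι _ _)).trans
      ((equalizer.lift_ι_assoc _ _ _).trans (pullback.lift_fst _ _ _))).trans (Category.id_comp _).symm
  conv_rhs => rw [equalizer.condition (pullback.fst u v) (pullback.snd u v)]
  simp [pullback.condition]

theorem good_pullback {X Y Z : Sh J} (hX : Good S X) (hY : Good S Y) (hZ : Good S Z)
    (f : X ⟶ Z) (g : Y ⟶ Z) : Good S (pullback f g) := by
  obtain ⟨A, p, hA, hp⟩ := hX.1
  obtain ⟨B, q, hB, hq⟩ := hY.1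
  refine ⟨cov_pullback_left p f g (cov_pullback_symm _ _ (cov_pullback_left q g (p ≫ f)
    (cov_pullback_symm _ _ (hZ.2 (p ≫ f) (q ≫ g) hA hB)))), fun A B a b hA hB => ?_⟩
  obtain ⟨M, m, hM, hm⟩ := hX.2 (a ≫ pullback.fst f g) (b ≫ pullback.fst f g) hA hB
  have h := cov_equalizer_of_comp m (pullback.fst _ _ ≫ a ≫ pullback.snd f g)
    (pullback.snd _ _ ≫ b ≫ pullback.snd f g) (cov_equalizer hS hM hY _ _)
  refine h.of_section
    (pullback.lift (equalizer.ι _ _ ≫ pullback.fst _ _) (equalizer.ι _ _ ≫ pullback.snd _ _) ?_)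
    (equalizer.lift (pullback.lift (pullback.fst a b) (pullback.snd a b)
      (by rw [pullback.condition_assoc]))
      (by rw [pullback.lift_fst_assoc, pullback.lift_snd_assoc, pullback.condition_assoc]))
    (pullback.hom_ext
      (by rw [Category.assoc, pullback.lift_fst, equalizer.lift_ι_assoc, pullback.lift_fst, Category.id_comp])
      (by rw [Category.assoc, pullback.lift_snd, equalizer.lift_ι_assoc, pullback.lift_snd, Category.id_comp]))
  refine pullback.hom_ext ?_ ?_
  · simp only [Category.assoc, pullback.condition]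
  · simpa using equalizer.condition (pullback.fst _ _ ≫ a ≫ pullback.snd f g)
      (pullback.snd _ _ ≫ b ≫ pullback.snd f g)

variable {I : Type u} [SmallCategory I] [IsFiltered I] (D : I ⥤ Sh J) {c : Cocone D}

omit hS in
theorem exists_epi_stage {L : Sh J} (hL : IsQC L) (hc : IsColimit c) (z : L ⟶ c.pt) :
    ∃ m : I, Epi (pullback.snd (c.ι.app m) z) := by
  classical
  have hcol : Topos.QC.Fam (fun i => c.ι.app i) := fun Z a b h => hc.hom_ext h
  obtain ⟨s, hs⟩ := Topos.QC.IsQC.exists_finset hL (Topos.QC.fam_pullback hcol z)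
  obtain ⟨m, hm⟩ := IsFiltered.sup_objs_exists s
  refine ⟨m, ⟨fun x y hxy => hs _ x y fun i => ?_⟩⟩
  have h : pullback.lift (pullback.fst (c.ι.app i.1) z ≫ D.map (hm i.2).some) (pullback.snd _ _)
      (by rw [Category.assoc, c.w, pullback.condition]) ≫ pullback.snd (c.ι.app m) z =
        pullback.snd (c.ι.app i.1) z := pullback.lift_snd _ _ _
  change pullback.snd (c.ι.app i.1) z ≫ x = pullback.snd (c.ι.app i.1) z ≫ y
  exact (congrArg (· ≫ x) h).symm.trans ((Category.assoc _ _ _).trans ((congrArg (_ ≫ ·) hxy).trans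
    ((Category.assoc _ _ _).symm.trans (congrArg (· ≫ y) h))))

theorem hom_filtered {X : Sh J} (hX : Good S X) (hc : IsColimit c) :
    (∀ z : X ⟶ c.pt, ∃ (i : I) (x : X ⟶ D.obj i), x ≫ c.ι.app i = z) ∧
    ∀ (i : I) (x y : X ⟶ D.obj i), x ≫ c.ι.app i = y ≫ c.ι.app i →
      ∃ (j : I) (a : i ⟶ j), x ≫ D.map a = y ≫ D.map a := by
  refine ⟨fun z => ?_, fun i x y h => Topos.QC.exists_eq_of_isQC (hX.1.isQC hS) hc x y h⟩
  obtain ⟨A, p, hA, hp⟩ := hX.1
  obtain ⟨m, hm⟩ := exists_epi_stage D (hS.qc A hA) hc (p ≫ z)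
  obtain ⟨L, l, hL, hl⟩ := (cov_of_mem hA).exists_refine hS (pullback.snd (c.ι.app m) (p ≫ z))
  let g := (l ≫ pullback.snd (c.ι.app m) (p ≫ z)) ≫ p
  haveI : Epi g := epi_comp _ _
  let x := l ≫ pullback.fst (c.ι.app m) (p ≫ z)
  have hx : x ≫ c.ι.app m = g ≫ z := by simp [x, g, pullback.condition]
  obtain ⟨N, n, hN, hn⟩ := hX.2 g g hL hL
  obtain ⟨j, a, ha⟩ := Topos.QC.exists_eq_of_isQC (hS.qc N hN) hc
    (n ≫ pullback.fst g g ≫ x) (n ≫ pullback.snd g g ≫ x)
    (by simp only [Category.assoc, hx, pullback.condition_assoc])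
  obtain ⟨y, hy⟩ := Topos.QC.fam_glue (Topos.QC.fam_single.{u} g) (fun _ => x ≫ D.map a) fun _ _ =>
    ⟨PUnit.{u + 1}, fun _ => _, fun _ => n, Topos.QC.fam_single.{u} n, fun _ => by simpa using ha⟩
  refine ⟨j, y, (cancel_epi g).1 ?_⟩
  rw [← Category.assoc, hy PUnit.unit, Category.assoc, c.w, hx]

end GrothLib.CohClass25
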